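import Mathlib
import Groth.Prelude.Def_DualLC
import Groth.Agent.RatliffLib.Converse.Main
import Groth.Agent.RatliffLib.Formal
import Groth.Agent.BootLib.Boot
import Groth.Agent.BootLib.DepthLoc
import Groth.Agent.FlatDepth.Fibres
import Groth.Agent.CutoffFinite.Basic

/-! The cutoff invariant and completion. -/

set_option autoImplicit false
set_option linter.style.haveILetI false
set_option backward.isDefEq.respectTransparency false
set_option maxHeartbeats 1000000

universe u

open IsLocalRing

noncomputable section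

namespace Groth.Agent.CutoffComplLib

open RatliffLib

/-- In an equidimensional catenary local ring height and coheight are complementary. -/
theorem height_add_dim_quotient {R : Type u} [CommRing R] [IsLocalRing R] [IsNoetherianRing R]
    (heq : EGA4.IsEquidim R) (hcat : CAlg.IsCatenary R) (p : Ideal R) [p.IsPrime] :
    ((p.height : ℕ∞) : WithBot ℕ∞) + ringKrullDim (R ⧸ p) = ringKrullDim R := by
  rw [CatLib.ringKrullDim_quotient_eq_coheight ⟨p, inferInstance⟩, dim_eq_height_closedPoint,
    PrimeSpectrum.height_eq_orderHeight ⟨p, inferInstance⟩, ← WithBot.coe_add, height_add_coheight heq hcat]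

theorem isEquidim_of_isDomain (R : Type u) [CommRing R] [IsDomain R] : EGA4.IsEquidim R := fun p hp => by
  rw [show p = ⊥ from le_antisymm (hp.2 ⟨Ideal.isPrime_bot, le_rfl⟩ bot_le) bot_le]
  exact ringKrullDim_eq_of_ringEquiv (RingEquiv.quotientBot R)

/-- The relative height in a catenary local ring. -/
theorem height_Ici_add {R : Type u} [CommRing R] [IsLocalRing R] [IsNoetherianRing R] (hcat : CAlg.IsCatenary R)
    (p q : PrimeSpectrum R) (h : p ≤ q) :
    ((Order.height (⟨q, h⟩ : Set.Ici p) : ℕ∞) : WithBot ℕ∞) + ringKrullDim (R ⧸ q.asIdeal) =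
      ringKrullDim (R ⧸ p.asIdeal) := by
  haveI : IsLocalRing (R ⧸ p.asIdeal) := IsLocalRing.of_surjective' _ Ideal.Quotient.mk_surjective
  haveI : (q.asIdeal.map (Ideal.Quotient.mk p.asIdeal)).IsPrime :=
    Ideal.map_isPrime_of_surjective Ideal.Quotient.mk_surjective (by rw [Ideal.mk_ker]; exact h)
  have h1 := height_add_dim_quotient (R := R ⧸ p.asIdeal) (isEquidim_of_isDomain _) (CatLib.isCatenary_quotient _ hcat)
    (q.asIdeal.map (Ideal.Quotient.mk p.asIdeal))
  rwa [ringKrullDim_eq_of_ringEquiv (DoubleQuot.quotQuotEquivQuotOfLE h), ← CutoffFinite.height_Ici_eq p q h] at h1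

variable {A : Type u} [CommRing A] [IsLocalRing A] [IsNoetherianRing A]

local notation "Â" => AdicCompletion (maximalIdeal A) A

theorem exists_dim (R : Type u) [CommRing R] [IsNoetherianRing R] [IsLocalRing R] (p : Ideal R) [p.IsPrime] :
    ∃ e : ℕ, ringKrullDim (R ⧸ p) = e := by
  haveI : IsLocalRing (R ⧸ p) := IsLocalRing.of_surjective' _ Ideal.Quotient.mk_surjective
  exact RegLocal.exists_nat_ringKrullDim _

/-- The extension of a prime to the completion of a universally catenary ring is equidimensional. -/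
theorem fibre_facts (hA : CAlg.IsUniversallyCatenary A) (p : Ideal A) [p.IsPrime] :
    EGA4.IsEquidim (Â ⧸ p.map (algebraMap A Â)) ∧ ringKrullDim (Â ⧸ p.map (algebraMap A Â)) = ringKrullDim (A ⧸ p) := by
  obtain ⟨_, _, _, _, -⟩ := compl_facts A
  haveI : Module.Flat A Â := (RegLocal.faithfullyFlat_completion A _ (maximalIdeal.isMaximal A).ne_top).toFlat
  refine ⟨?_, ?_⟩
  · haveI : IsLocalRing (A ⧸ p) := IsLocalRing.of_surjective' _ Ideal.Quotient.mk_surjective
    obtain ⟨e, -⟩ := CMCat.exists_complQuotEquiv p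
    exact CMCat.isEquidim_of_ringEquiv e.symm (isFormallyCatenary_of_universallyCatenary hA p)
  · rw [dim_quotient_map p (Ideal.IsPrime.ne_top inferInstance), closedFibre_completion, add_zero]

/-- A minimal prime over `pÂ` has the dimension of `A/p`. -/
theorem dim_of_minimal (hA : CAlg.IsUniversallyCatenary A) (p : Ideal A) [p.IsPrime] (P : Ideal Â)
    (hP : P ∈ (p.map (algebraMap A Â)).minimalPrimes) : ringKrullDim (Â ⧸ P) = ringKrullDim (A ⧸ p) := by
  obtain ⟨heq, hdim⟩ := fibre_facts hA p
  have hq : P.map (Ideal.Quotient.mk (p.map (algebraMap A Â))) ∈ (⊥ : Ideal (Â ⧸ p.map (algebraMap A Â))).minimalPrimes := by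
    rw [← Ideal.map_quotient_self (p.map (algebraMap A Â)),
      Ideal.minimalPrimes_map_of_surjective Ideal.Quotient.mk_surjective]
    exact ⟨P, by rwa [Ideal.mk_ker, sup_idem], rfl⟩
  rw [← ringKrullDim_eq_of_ringEquiv (DoubleQuot.quotQuotEquivQuotOfLE hP.1.2), ← hdim]
  exact heq _ hq

section Fibre

/-- The closed fibre of a localized extension is the localization of the fibre ring. -/
theorem skLocal_localized_fibre (n : ℕ) {R S : Type u} [CommRing R] [CommRing S] [IsNoetherianRing R] [IsNoetherianRing S]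
    [Algebra R S] (q : Ideal S) [hq : q.IsPrime] (p : Ideal R) [p.IsPrime] [q.LiesOver p]
    (h : LocCoh.HasSk n (p.Fiber S) (p.Fiber S)) :
    FlatDepth.SkLocal n (Localization.AtPrime q ⧸ p.map (algebraMap R (Localization.AtPrime q))) := by
  let e := PrimeSpectrum.preimageEquivFiber R S ⟨p, inferInstance⟩
  let Q := e ⟨⟨q, hq⟩, PrimeSpectrum.ext (Ideal.over_def q p).symm⟩
  have hQ : Q.asIdeal.comap (Algebra.TensorProduct.includeRight : S →ₐ[R] p.Fiber S) = q :=
    congrArg (fun x => x.1.asIdeal) (e.symm_apply_apply ⟨⟨q, hq⟩, PrimeSpectrum.ext (Ideal.over_def q p).symm⟩)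
  haveI := FlatDepth.isNoetherianRing_fiber R S p
  have hF := (FlatDepth.hasSk_iff n _).1 h Q.asIdeal
  set r := Q.asIdeal.comap (Algebra.TensorProduct.includeRight : S →ₐ[R] p.Fiber S) with hr
  haveI : r.IsPrime := Ideal.IsPrime.comap _
  suffices FlatDepth.SkLocal n (Localization.AtPrime r ⧸ p.map (algebraMap R (Localization.AtPrime r))) by
    exact (show ∀ (J : Ideal S) (_ : J.IsPrime), J = r →
        FlatDepth.SkLocal n (Localization.AtPrime J ⧸ p.map (algebraMap R (Localization.AtPrime J))) from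
      fun J _ e => by subst e; exact this) q hq hQ.symm
  haveI : r.LiesOver p := ⟨hQ ▸ Ideal.over_def q p⟩
  letI : Algebra (Localization.AtPrime p) (Localization.AtPrime r) := Localization.AtPrime.algebraOfLiesOver p r
  have e2 := Ideal.Fiber.localizationAlgEquivQuotient p Q.asIdeal
  exact FlatDepth.skLocal_of_ringEquiv e2.toRingEquiv hF

end Fibre

/-- The local ring of the fibre at a prime of the completion: its invariants. -/
theorem exists_fibre_bound (hA : CAlg.IsUniversallyCatenary A) {n : ℕ} (hn : EGA4.HasSnFormalFibres n A)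
    (M : Type u) [AddCommGroup M] [Module A M] [Module.Finite A M] (p : Ideal A) [p.IsPrime] (P : Ideal Â) [P.IsPrime]
    [P.LiesOver p] (a b : ℕ) (ha : ringKrullDim (A ⧸ p) = a) (hb : ringKrullDim (Â ⧸ P) = b) :
    ∃ c t : ℕ, t + b = a ∧ (n ≤ c ∨ t ≤ c) ∧
      LocCoh.depth (Localization.AtPrime P) (LocalizedModule P.primeCompl (AdicCompletion (maximalIdeal A) M)) =
        LocCoh.depth (Localization.AtPrime p) (LocalizedModule p.primeCompl M) + c := by
  obtain ⟨_, _, _, _, -⟩ := compl_facts A
  haveI : Module.Flat A Â := (RegLocal.faithfullyFlat_completion A _ (maximalIdeal.isMaximal A).ne_top).toFlat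
  haveI : IsNoetherianRing (EGA4.Cpl A) := ‹IsNoetherianRing Â›
  obtain ⟨g, hg⟩ := BootLib.isBaseChange_completion (maximalIdeal A) M
  rw [BootLib.depth_localized_baseChange hg p P]
  obtain ⟨hloc, hsk⟩ := skLocal_localized_fibre n (S := Â) P p (hn p)
  let R := Localization.AtPrime p
  let S := Localization.AtPrime P
  haveI : IsNoetherianRing S := IsLocalization.isNoetherianRing P.primeCompl _ inferInstance
  haveI : IsNoetherianRing R := IsLocalization.isNoetherianRing p.primeCompl _ inferInstance
  let J := p.map (algebraMap A S)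
  haveI : IsLocalRing (S ⧸ J) := hloc
  haveI : IsNoetherianRing (S ⧸ J) := isNoetherianRing_of_surjective _ _ _ Ideal.Quotient.mk_surjective
  obtain ⟨t, ht⟩ := RegLocal.exists_nat_ringKrullDim (S ⧸ J)
  haveI : Nontrivial (S ⧸ J) := inferInstance
  obtain ⟨c, hc⟩ := FlatDepth.exists_depth_eq (R := S ⧸ J) (M := S ⧸ J)
  have hdS : LocCoh.depth S (S ⧸ J) = c := by
    rw [← FlatDepth.depth_of_surjective (S := S) (R := S ⧸ J) Ideal.Quotient.mk_surjective (S ⧸ J), hc]
  refine ⟨c, t, ?_, ?_, by rw [hdS]⟩
  swap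
  · rw [ht, hc] at hsk
    rcases le_total n t with hnt | htn
    · rw [min_eq_left (by exact_mod_cast hnt)] at hsk
      exact Or.inl (by exact_mod_cast hsk)
    · rw [min_eq_right (by exact_mod_cast htn)] at hsk
      exact Or.inr (by exact_mod_cast hsk)
  -- the dimension of the fibre
  obtain ⟨heq, hdim⟩ := fibre_facts hA p
  let J' := p.map (algebraMap A Â)
  have hJ'P : J' ≤ P := Ideal.map_le_iff_le_comap.2 (Ideal.over_def P p).le
  haveI : Nontrivial (Â ⧸ J') := Ideal.Quotient.nontrivial_iff.2 fun h => Ideal.IsPrime.ne_top' (top_le_iff.1 (h ▸ hJ'P))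
  haveI : IsLocalRing (Â ⧸ J') := IsLocalRing.of_surjective' _ Ideal.Quotient.mk_surjective
  haveI : (P.map (Ideal.Quotient.mk J')).IsPrime :=
    Ideal.map_isPrime_of_surjective Ideal.Quotient.mk_surjective (by rw [Ideal.mk_ker]; exact hJ'P)
  have h1 := height_add_dim_quotient (R := Â ⧸ J') heq
    (CatLib.isCatenary_quotient _ (isCatenary_of_isUniversallyCatenary (isUniversallyCatenary_completion A)))
    (P.map (Ideal.Quotient.mk J'))
  rw [ringKrullDim_eq_of_ringEquiv (DoubleQuot.quotQuotEquivQuotOfLE hJ'P), hdim, ha, hb] at h1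
  have h2 := Ideal.height_eq_height_add_of_liesOver_of_hasGoingDown p P
  letI : Algebra R S := Localization.AtPrime.algebraOfLiesOver p P
  haveI : IsLocalHom (algebraMap R S) := Localization.isLocalHom_localRingHom p P (algebraMap A Â) (Ideal.over_def P p)
  haveI : Module.Flat R S := by
    refine Module.flat_iff_of_isLocalization R p.primeCompl S |>.mpr ?_
    haveI : Module.Flat Â S := IsLocalization.flat S P.primeCompl
    exact Module.Flat.trans A Â S
  have h3 := dim_flat_local (A := R) (A' := S)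
  have hmap : (maximalIdeal R).map (algebraMap R S) = J := by
    rw [← Localization.AtPrime.map_eq_maximalIdeal, Ideal.map_map, ← IsScalarTower.algebraMap_eq]
  rw [ringKrullDim_eq_of_ringEquiv (Ideal.quotEquivOfEq hmap), ht,
    IsLocalization.AtPrime.ringKrullDim_eq_height P S, IsLocalization.AtPrime.ringKrullDim_eq_height p R, h2] at h3
  obtain ⟨hp, hhp⟩ := ENat.ne_top_iff_exists.mp (Ideal.height_ne_top (I := p) (Ideal.IsPrime.ne_top inferInstance))
  obtain ⟨hP, hhP⟩ := ENat.ne_top_iff_exists.mp
    (Ideal.height_ne_top (I := P.map (Ideal.Quotient.mk J')) (Ideal.IsPrime.ne_top inferInstance))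
  rw [← hhp, ← hhP] at h3
  rw [← hhP] at h1
  norm_cast at h1 h3
  omega

theorem cutoff_completion_le (hA : CAlg.IsUniversallyCatenary A) (I : Ideal A) (M : Type u) [AddCommGroup M] [Module A M]
    [Module.Finite A M] :
    Dual2.cutoff Â (I.map (algebraMap A Â)) (AdicCompletion (maximalIdeal A) M) ≤ Dual2.cutoff A I M := by
  obtain ⟨_, _, _, _, -⟩ := compl_facts A
  haveI : Module.FaithfullyFlat A Â := RegLocal.faithfullyFlat_completion A _ (maximalIdeal.isMaximal A).ne_top
  have hcat := isCatenary_of_isUniversallyCatenary hA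
  have hcat' := isCatenary_of_isUniversallyCatenary (isUniversallyCatenary_completion A)
  refine le_iInf fun p => le_iInf fun q => le_iInf fun h => le_iInf fun hp => le_iInf fun hq => ?_
  have hne : q.asIdeal.map (algebraMap A Â) ≠ ⊤ := fun htop => (maximalIdeal.isMaximal Â).ne_top
    (top_le_iff.1 (htop ▸ map_le_maximal _ q.isPrime.ne_top))
  obtain ⟨Q, hQ⟩ := Ideal.nonempty_minimalPrimes hne
  haveI := hQ.1.1
  have hQA : Q.under A = q.asIdeal := under_eq_of_minimal hQ
  have hpQ : p.asIdeal.map (algebraMap A Â) ≤ Q := (Ideal.map_mono h).trans hQ.1.2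
  obtain ⟨P, hP, hPQ⟩ := Ideal.exists_minimalPrimes_le hpQ
  haveI := hP.1.1
  have hPA : P.under A = p.asIdeal := under_eq_of_minimal hP
  haveI : P.LiesOver p.asIdeal := ⟨hPA.symm⟩
  obtain ⟨g, hg⟩ := BootLib.isBaseChange_completion (maximalIdeal A) M
  refine iInf_le_of_le ⟨P, inferInstance⟩ (iInf_le_of_le ⟨Q, inferInstance⟩ (iInf_le_of_le hPQ (iInf_le_of_le
    (fun hle => hp (fun x hx => hPA ▸ hle (Ideal.mem_map_of_mem _ hx))) (iInf_le_of_le
      ((Ideal.map_mono hq).trans hQ.1.2) ?_))))
  rw [show LocCoh.depth (Localization.AtPrime P) (LocalizedModule P.primeCompl (AdicCompletion (maximalIdeal A) M)) =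
    _ from BootLib.depth_localized_baseChange_of_minimal hg p.asIdeal P hP]
  refine add_le_add le_rfl (le_of_eq ?_)
  have h1 := height_Ici_add hcat p q h
  have h2 := height_Ici_add hcat' ⟨P, inferInstance⟩ ⟨Q, inferInstance⟩ hPQ
  simp only [dim_of_minimal hA p.asIdeal P hP, dim_of_minimal hA q.asIdeal Q hQ] at h2
  obtain ⟨a, ha⟩ := exists_dim A p.asIdeal
  obtain ⟨b, hb⟩ := exists_dim A q.asIdeal
  rw [ha, hb] at h1 h2
  generalize Order.height (⟨q, h⟩ : Set.Ici p) = x at h1 ⊢
  generalize Order.height (⟨⟨Q, inferInstance⟩, hPQ⟩ : Set.Ici (⟨P, inferInstance⟩ : PrimeSpectrum Â)) = y at h2 ⊢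
  induction x using ENat.recTopCoe with
  | top => norm_cast at h1
  | coe x =>
    induction y using ENat.recTopCoe with
    | top => norm_cast at h2
    | coe y =>
      norm_cast at h1 h2 ⊢
      omega

theorem le_cutoff_completion (hA : CAlg.IsUniversallyCatenary A) {n : ℕ} (hn : EGA4.HasSnFormalFibres n A) (I : Ideal A)
    (M : Type u) [AddCommGroup M] [Module A M] [Module.Finite A M] :
    min ((n : ℕ∞) + 1) (Dual2.cutoff A I M) ≤
      Dual2.cutoff Â (I.map (algebraMap A Â)) (AdicCompletion (maximalIdeal A) M) := by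
  obtain ⟨_, _, _, _, -⟩ := compl_facts A
  haveI : Module.FaithfullyFlat A Â := RegLocal.faithfullyFlat_completion A _ (maximalIdeal.isMaximal A).ne_top
  have hcat := isCatenary_of_isUniversallyCatenary hA
  have hcat' := isCatenary_of_isUniversallyCatenary (isUniversallyCatenary_completion A)
  refine le_iInf fun P => le_iInf fun Q => le_iInf fun h => le_iInf fun hP => le_iInf fun hQ => ?_
  let p : PrimeSpectrum A := PrimeSpectrum.comap (algebraMap A Â) P
  let q : PrimeSpectrum A := PrimeSpectrum.comap (algebraMap A Â) Q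
  have hpq : p ≤ q := Ideal.comap_mono h
  haveI : P.asIdeal.LiesOver p.asIdeal := ⟨rfl⟩
  obtain ⟨a, ha⟩ := exists_dim A p.asIdeal
  obtain ⟨a', ha'⟩ := exists_dim A q.asIdeal
  obtain ⟨b, hb⟩ := exists_dim Â P.asIdeal
  obtain ⟨b', hb'⟩ := exists_dim Â Q.asIdeal
  obtain ⟨c, t, htb, hct, hdep⟩ := exists_fibre_bound hA hn M p.asIdeal P.asIdeal a b ha hb
  have hble : b' ≤ a' := by
    have hle := ringKrullDim_le_of_surjective (Ideal.Quotient.factor (show q.asIdeal.map (algebraMap A Â) ≤ Q.asIdeal from
      Ideal.map_le_iff_le_comap.2 le_rfl)) (Ideal.Quotient.factor_surjective _)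
    rw [hb', (fibre_facts hA q.asIdeal).2, ha'] at hle
    exact_mod_cast hle
  have hcut : Dual2.cutoff A I M ≤
      LocCoh.depth (Localization.AtPrime p.asIdeal) (LocalizedModule p.asIdeal.primeCompl M) +
        Order.height (⟨q, hpq⟩ : Set.Ici p) :=
    iInf_le_of_le p (iInf_le_of_le q (iInf_le_of_le hpq (iInf_le_of_le
      (fun hle => hP (Ideal.map_le_iff_le_comap.2 hle)) (iInf_le_of_le (Ideal.map_le_iff_le_comap.1 hQ) le_rfl))))
  have h1 := height_Ici_add hcat p q hpq
  have h2 := height_Ici_add hcat' P Q h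
  have hne : P ≠ Q := fun he => hP (he ▸ hQ)
  have h3 : (1 : ℕ∞) ≤ Order.height (⟨Q, h⟩ : Set.Ici P) := by
    rw [ENat.one_le_iff_ne_zero, Ne, Order.height_eq_zero]
    exact fun hmin => hne (le_antisymm h (hmin (b := (⟨P, le_refl P⟩ : Set.Ici P)) h))
  rw [hdep]
  rw [ha, ha'] at h1
  rw [hb, hb'] at h2
  generalize Order.height (⟨q, hpq⟩ : Set.Ici p) = x at h1 hcut
  generalize Order.height (⟨Q, h⟩ : Set.Ici P) = y at h2 h3 ⊢
  induction x using ENat.recTopCoe with
  | top => norm_cast at h1
  | coe x =>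
    induction y using ENat.recTopCoe with
    | top => norm_cast at h2
    | coe y =>
      generalize LocCoh.depth (Localization.AtPrime p.asIdeal) (LocalizedModule p.asIdeal.primeCompl M) = z at hcut ⊢
      generalize Dual2.cutoff A I M = s at hcut ⊢
      induction z using ENat.recTopCoe with
      | top => simp
      | coe z =>
        induction s using ENat.recTopCoe with
        | top => norm_cast at hcut
        | coe s =>
          rw [min_le_iff]
          norm_cast at h1 h2 h3 hcut ⊢
          omega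

end Groth.Agent.CutoffComplLib
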